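import Groth.Agent.Lib.AlgSpGeomCount.Count
import Groth.Agent.Lib.AlgSpDecent.GeomConn

/-!
# Geometric points through points of charts
-/

set_option autoImplicit false
universe u

open CategoryTheory CategoryTheory.Limits AlgebraicGeometry
open AlgSp

namespace Groth.Agent.Lib.AlgSpGeomCount

open Groth.Agent.Lib.AlgSpace Groth.Agent.Lib.AlgSpDecent Groth.Agent.Lib.AlgSpMor

variable {S : Scheme.{u}}

/-- The class of the field point over a point of a chart. -/
theorem mk_ofHom_resHom {U : Over S} {F : Sp S} (p : (yon S).obj U ⟶ F) (u : ↥U.left) (K : Type u)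
    [Field K] [Algebra (U.left.residueField u) K] :
    Points.mk (Core.ofHom ((yon S).map (GeomConn.resHom u K) ≫ p)) = Points.ofPt p u := by
  rw [← Points.ofPt_toHom (Core.ofHom ((yon S).map (GeomConn.resHom u K) ≫ p)) (IsLocalRing.closedPoint K),
    Core.toHom_ofHom]
  refine (Core.ofPt_map_comp _ _ _).trans ?_
  congr 1
  exact (Scheme.Hom.comp_apply _ _ _).trans (Scheme.fromSpecResidueField_apply _ _)

end Groth.Agent.Lib.AlgSpGeomCount
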