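import Mathlib.Topology.Connected.Clopen
import Mathlib.SetTheory.Cardinal.NatCard

/-!
# Connected components of spaces covered by connected sets with comparable nerves
-/

set_option autoImplicit false

namespace Groth.Agent.Lib.AlgSpGeomCount

/-- If `α` has a finite cover by connected open sets and `β` a cover by connected sets such that
two members meet in `β` whenever they meet in `α`, then `β` has at most as many components as `α`. -/
theorem card_le_of_nerve {α β : Type*} [TopologicalSpace α] [TopologicalSpace β] {m : ℕ}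
    (A : Fin m → Set α) (B : Fin m → Set β) (hAo : ∀ i, IsOpen (A i)) (hAc : ∀ i, _root_.IsConnected (A i))
    (hAu : ∀ x, ∃ i, x ∈ A i) (hBc : ∀ i, _root_.IsConnected (B i)) (hBu : ∀ x, ∃ i, x ∈ B i)
    (hAB : ∀ i j, (A i ∩ A j).Nonempty → (B i ∩ B j).Nonempty) :
    ENat.card (_root_.ConnectedComponents β) ≤ ENat.card (_root_.ConnectedComponents α) ∧
      ENat.card (_root_.ConnectedComponents β) ≠ ⊤ := by
  let F : Fin m → _root_.ConnectedComponents β := fun i => ConnectedComponents.mk (hBc i).nonempty.choose
  let G : Fin m → _root_.ConnectedComponents α := fun i => ConnectedComponents.mk (hAc i).nonempty.choose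
  have hFmem : ∀ i x, x ∈ B i → F i = ConnectedComponents.mk x := fun i x hx =>
    ConnectedComponents.coe_eq_coe'.2
      ((hBc i).isPreconnected.subset_connectedComponent hx (hBc i).nonempty.choose_spec)
  have hFs : Function.Surjective F := by
    intro c
    obtain ⟨x, rfl⟩ := ConnectedComponents.surjective_coe c
    obtain ⟨i, hi⟩ := hBu x
    exact ⟨i, hFmem i x hi⟩
  have hedge : ∀ i j, (A i ∩ A j).Nonempty → F i = F j := fun i j hij => by
    obtain ⟨x, hxi, hxj⟩ := hAB i j hij
    rw [hFmem i x hxi, hFmem j x hxj]
  have key : ∀ i j, G i = G j → F i = F j := by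
    intro i j hij
    let T : Set α := ⋃ l ∈ {l | F l = F i}, A l
    have hTo : IsOpen T := isOpen_biUnion fun l _ => hAo l
    have hTc : IsClosed T := by
      have : Tᶜ = ⋃ l ∈ {l | F l ≠ F i}, A l := by
        ext x
        constructor
        · intro hx
          obtain ⟨l, hl⟩ := hAu x
          exact Set.mem_biUnion (x := l) (fun e => hx (Set.mem_biUnion (x := l) e hl)) hl
        · intro hx hxT
          obtain ⟨l, hl, hxl⟩ := Set.mem_iUnion₂.1 hx
          obtain ⟨l', hl', hxl'⟩ := Set.mem_iUnion₂.1 hxT
          exact hl ((hedge l l' ⟨x, hxl, hxl'⟩).trans hl')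
      rw [← isOpen_compl_iff, this]
      exact isOpen_biUnion fun l _ => hAo l
    have hsub := (IsClopen.connectedComponent_subset ⟨hTc, hTo⟩
      (Set.mem_biUnion (x := i) rfl (hAc i).nonempty.choose_spec))
    obtain ⟨l, hl, hjl⟩ := Set.mem_iUnion₂.1 (hsub (ConnectedComponents.coe_eq_coe'.1 hij.symm))
    exact hl.symm.trans (hedge l j ⟨_, hjl, (hAc j).nonempty.choose_spec⟩)
  refine ⟨?_, ?_⟩
  · refine ENat.card_le_card_of_injective (f := fun c => G (hFs c).choose) fun c c' h => ?_
    rw [← (hFs c).choose_spec, ← (hFs c').choose_spec]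
    exact key _ _ h
  · have : Finite (_root_.ConnectedComponents β) := Finite.of_surjective F hFs
    exact ENat.card_lt_top.2 this |>.ne

end Groth.Agent.Lib.AlgSpGeomCount
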