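import Groth.Agent.Lib.AlgSpGeomCount.Sections
import Groth.Agent.Lib.AlgSpGeomCount.Nerve
import Groth.Agent.Lib.AlgSpGeomCount.GeomPt
import Groth.Agent.Lib.AlgSpDecent.GeomRedFibre
import Groth.Agent.Lib.AlgSpFpqc.Fppf

/-!
# The number of geometric components does not go up near geometrically reduced fibres
-/

set_option autoImplicit false
universe u

open CategoryTheory CategoryTheory.Limits AlgebraicGeometry Topology
open AlgSp

namespace Groth.Agent.Lib.AlgSpGeomCount

open Groth.Agent.Lib Groth.Agent.Lib.AlgSpace Groth.Agent.Lib.AlgSpDecent Groth.Agent.Lib.AlgSpMor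

variable {S : Scheme.{u}}

/-- A chart of a morphism has geometrically reduced fibres over the points with good fibre. -/
theorem geometricallyReduced_of_goodFibre {X Y : Sp S} (hX : IsAlgSpace X) (hY : IsAlgSpace Y)
    {f : X ⟶ Y} {U V : Over S} {a : (yon S).obj U ⟶ X} {b : (yon S).obj V ⟶ Y} {h : U ⟶ V}
    (ha : RepWith @Etale a) (hb : RepWith @Etale b) (w : a ≫ f = (yon S).map h ≫ b) (v : ↥V.left)
    (hy : GeomRedFibre.GoodFibre f (Points.ofPt b v)) :
    GeometricallyReduced (h.left.fiberToSpecResidueField v) := by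
  have hgood : ∀ u : ↥U.left, h.left u = v →
      FBase.IsGeomReducedAt (h.left.fiberToSpecResidueField (h.left.base u)) (h.left.asFiber u) := by
    intro u hu
    refine (GeomRedFibre.good_iff hX hY ha hb w u).1 ((GeomRedFibre.goodFibre_iff hX hY _).1 hy _ ?_)
    rw [← Core.ofPt_comp, w, Core.ofPt_map_comp, hu]
  refine ⟨geometrically_iff_of_isClosedUnderIsomorphisms.mpr fun K _ σ => ?_⟩
  obtain ⟨φ, rfl⟩ := Spec.map_surjective σ
  let _ : Algebra (IsLocalRing.ResidueField (V.left.presheaf.stalk v)) K := φ.hom.toAlgebra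
  have : ∀ p, _root_.IsReduced ((FBase.bc (h.left.fiberToSpecResidueField v) K).presheaf.stalk p) := by
    intro p
    let z := (FBase.bcπ (h.left.fiberToSpecResidueField v) K).base p
    have hz : h.left (h.left.fiberι v z) = v := by
      have : h.left.fiberι v z ∈ Set.range (h.left.fiberι v) := ⟨z, rfl⟩
      rwa [Scheme.Hom.range_fiberι] at this
    have key : ∀ (x : U.left) (y : V.left) (_ : h.left x = y) (z : ↥(h.left.fiber y)), h.left.fiberι y z = x →
        FBase.IsGeomReducedAt (h.left.fiberToSpecResidueField (h.left.base x)) (h.left.asFiber x) →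
        FBase.IsGeomReducedAt (h.left.fiberToSpecResidueField y) z := by
      rintro x _ rfl z hz hx
      obtain rfl : z = h.left.asFiber x :=
        (h.left.fiberι (h.left x)).isEmbedding.injective (hz.trans (h.left.fiberι_asFiber x).symm)
      exact hx
    exact key _ v hz z rfl (hgood _ hz) K p rfl
  exact @isReduced_of_isReduced_stalk _ this

/-- Near a point with geometrically reduced fibre of a proper flat morphism of finite presentation
the number of geometric components is at most the one at the point, and finite. -/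
theorem exists_nhd_card_le {X Y : Sp S} (hX : IsAlgSpace X) (hY : IsAlgSpace Y) {f : X ⟶ Y}
    (hf1 : IsProperMor f) (hf2 : LocP @Flat f) (hf3 : LocP @LocallyOfFinitePresentation f)
    (y : Points Y) (hred : GeomRedFibre.GoodFibre f y) :
    ∃ O : Set (Points Y), IsOpen O ∧ y ∈ O ∧ ∀ y' ∈ O, ∀ (k k' : FieldPt Y), Points.mk k = y →
      Points.mk k' = y' → k.IsGeometric → k'.IsGeometric →
      ∀ (P : Sp S) (a : P ⟶ X) (b : P ⟶ (yon S).obj k.pt), IsPullback a b f k.toHom →
      ∀ (P' : Sp S) (a' : P' ⟶ X) (b' : P' ⟶ (yon S).obj k'.pt), IsPullback a' b' f k'.toHom →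
        ENat.card (_root_.ConnectedComponents (Points P')) ≤
          ENat.card (_root_.ConnectedComponents (Points P)) ∧
        ENat.card (_root_.ConnectedComponents (Points P')) ≠ ⊤ := by
  obtain ⟨U, p, hp, hps⟩ := hY.atlas
  obtain ⟨u, rfl⟩ := Core.surjective_ofPt hps y
  obtain ⟨O, hO, huO, -⟩ := exists_isAffineOpen_mem_and_subset (show u ∈ (⊤ : U.left.Opens) from trivial)
  let V : Over S := Over.mk (O.ι ≫ U.hom)
  have : IsAffine V.left := hO
  let jV : V ⟶ U := Over.homMk O.ι rfl
  let bV : (yon S).obj V ⟶ Y := (yon S).map jV ≫ p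
  have hbV : RepWith @Etale bV :=
    repWith_comp (repWith_etale_yon_map (inferInstanceAs (Etale O.ι))) hp
  let v : ↥V.left := ⟨u, huO⟩
  have hv : Points.ofPt bV v = Points.ofPt p u := Core.ofPt_map_comp _ _ _
  have sqV := IsPullback.of_hasPullback f bV
  have hVs := IsAlgSpace.yon_obj V
  have hXV := isAlgSpace_of_isPullback sqV hY.diag hX hVs
  have hprop := Proper.isProperMor_baseChange hX hY hVs sqV hf1
  have hflat := LocP.locP_of_isPullback SourceDescent.Scheme.flat hX hY hVs sqV hf2
  have hlfp := LocP.locP_of_isPullback SourceDescent.Scheme.locallyOfFinitePresentation hX hY hVs sqV hf3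
  let g := pullback.snd f bV
  -- an affine chart of `X_V`
  have : CompactSpace (Points (pullback f bV)) :=
    QC.compactSpace_of_isQuasiCompactMor hprop.2.1.2 (IsPullback.of_id_fst (f := g))
  obtain ⟨U₁, p₁, hp₁, hp₁s⟩ := hXV.atlas
  obtain ⟨T, k₁, hT, hce, hcs⟩ := AlgSpNormCover.exists_affine_refinement hXV hp₁ hp₁s
  let c : (yon S).obj T ⟶ pullback f bV := (yon S).map k₁ ≫ p₁
  obtain ⟨hT', hhT⟩ := (yon S).map_surjective (c ≫ g)
  have hrep := LocP.repWith_of_locP AlgSpFpqc.Fppf.etaleLocalST hVs (representable_from_yon hVs.diag _)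
    (LocP.locP_comp AlgSpFpqc.Fppf.etaleLocalST (IsAlgSpace.yon_obj T) hXV hVs
      (LocP.locP_of_repWith AlgSpFpqc.Fppf.etaleLocalST
        (repWith_mono hce fun A B q (_ : Etale q) ↦ ⟨inferInstance, inferInstance⟩))
      (AlgSpFpqc.Source.locP_inf.2 ⟨hflat, hlfp⟩))
  rw [← hhT, repWith_yon_map_iff] at hrep
  have : Flat hT'.left := hrep.1
  have : LocallyOfFinitePresentation hT'.left := hrep.2
  have hgr : GeometricallyReduced (hT'.left.fiberToSpecResidueField v) := by
    refine geometricallyReduced_of_goodFibre hX hY (a := c ≫ pullback.fst f bV) (b := bV)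
      (repWith_comp hce (repWith_baseChange sqV.flip hbV)) hbV ?_ v (hv.symm ▸ hred)
    rw [Category.assoc, sqV.w, hhT]
    simp only [c, g, Category.assoc]
  obtain ⟨W₀, e₀, he₀, w₁, hw, m, SC, O', hO', hsub, hcov, hfibre, hconn⟩ :=
    exists_componentSets hT'.left v hgr
  let W : Over S := Over.mk (e₀ ≫ V.hom)
  let w : ↥W.left := w₁
  let e : W ⟶ V := Over.homMk e₀ rfl
  have hWs := IsAlgSpace.yon_obj W
  let Q : Over S := Over.mk (pullback.fst hT'.left e₀ ≫ T.hom)
  let q₁ : Q ⟶ T := Over.homMk (pullback.fst hT'.left e₀) rfl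
  let q₂ : Q ⟶ W := Over.homMk (pullback.snd hT'.left e₀) (by
    show pullback.snd hT'.left e₀ ≫ e₀ ≫ V.hom = pullback.fst hT'.left e₀ ≫ T.hom
    rw [← Over.w hT', pullback.condition_assoc])
  have sqQ : IsPullback q₁ q₂ hT' e := IsPullback.of_map (Over.forget S)
    (Over.OverMorphism.ext pullback.condition) (IsPullback.of_hasPullback hT'.left e₀)
  have sqW := IsPullback.of_hasPullback g ((yon S).map e)
  have hXW := isAlgSpace_of_isPullback sqW hVs.diag hXV hWs
  let π : (yon S).obj Q ⟶ pullback g ((yon S).map e) :=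
    sqW.lift ((yon S).map q₁ ≫ c) ((yon S).map q₂)
      (by rw [Category.assoc, ← hhT, ← Functor.map_comp, ← Functor.map_comp, sqQ.w])
  have sqπ : IsPullback ((yon S).map q₁) π c (pullback.fst g ((yon S).map e)) := by
    refine IsPullback.of_bot ?_ (sqW.lift_fst _ _ _).symm sqW
    rw [← hhT, sqW.lift_snd]
    exact isPullback_yon sqQ
  have hπo : IsOpenMap (Points.ofPt π) := Core.isOpenMap_ofPt (repWith_baseChange sqπ hce)
  have hπs : Function.Surjective (Points.ofPt π) := Core.surjective_ofPt (repWith_baseChange sqπ hcs)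
  let bW := pullback.snd g ((yon S).map e)
  have hopen : IsOpenMap (Points.map bW) := AlgSpFpqc.Fppf.isOpenMap hXW hWs
    (LocP.locP_of_isPullback SourceDescent.Scheme.flat hXV hVs hWs sqW hflat)
    (LocP.locP_of_isPullback SourceDescent.Scheme.locallyOfFinitePresentation hXV hVs hWs sqW hlfp)
  have hclosed : IsClosedMap (Points.map bW) := Proper.isClosedMap_of_isUnivClosedMor hWs
    (Proper.univSp_baseChange sqW hprop.2.2)
  have hbπ : ∀ z : ↥Q.left, Points.map bW (Points.ofPt π z) = Points.schemeHomeo W (q₂.left z) := by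
    intro z
    rw [← Core.ofPt_comp, sqW.lift_snd, Core.ofPt_yon_map]
    rfl
  let K : Fin m → Set (Points (pullback g ((yon S).map e))) := fun i => Points.ofPt π '' SC i
  let I : Fin m → Set (Points (pullback g ((yon S).map e))) := fun i => Points.ofPt π '' O' i
  let w₀ := Points.schemeHomeo W w
  let G : Set (Points ((yon S).obj W)) :=
    (Points.map bW '' (⋃ i, I i)ᶜ)ᶜ ∩
      ⋂ q : {q : Fin m × Fin m // w₀ ∈ Points.map bW '' (I q.1 ∩ I q.2)},
        Points.map bW '' (I q.1.1 ∩ I q.1.2)
  have hI : ∀ i, IsOpen (I i) := fun i => hπo _ (hO' i)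
  have hG : IsOpen G :=
    (hclosed _ (isOpen_iUnion hI).isClosed_compl).isOpen_compl.inter
      (isOpen_iInter_of_finite fun q => hopen _ ((hI _).inter (hI _)))
  have hwcov : ∀ x, Points.map bW x = w₀ → ∃ i, x ∈ I i := fun x hx => by
    obtain ⟨z, rfl⟩ := hπs x
    rw [hbπ] at hx
    obtain ⟨i, hi⟩ := hcov z ((Points.schemeHomeo W).injective hx)
    exact ⟨i, z, hi, rfl⟩
  have hwG : w₀ ∈ G := by
    refine ⟨?_, Set.mem_iInter.2 fun q => q.2⟩
    rintro ⟨x, hx, hxw⟩
    exact hx (Set.mem_iUnion.2 (hwcov x hxw))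
  have hwK : ∀ i x, Points.map bW x = w₀ → x ∈ K i → x ∈ I i := by
    rintro i _ hx ⟨z, hz, rfl⟩
    rw [hbπ] at hx
    exact ⟨z, hfibre i z ((Points.schemeHomeo W).injective hx) hz, rfl⟩
  -- the components of a geometric fibre over a point of `W`
  have hfib : ∀ (w' : ↥W.left) (i : Fin m),
      _root_.IsConnected (Points.map (pullback.fst bW ((yon S).map
        (GeomConn.resHom w' (AlgebraicClosure (W.left.residueField w'))))) ⁻¹' K i) := by
    intro w' i
    let τ := GeomConn.resHom w' (AlgebraicClosure (W.left.residueField w'))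
    have sqτ := IsPullback.of_hasPullback bW ((yon S).map τ)
    let R : Over S := Over.mk (pullback.fst q₂.left τ.left ≫ Q.hom)
    let r₁ : R ⟶ Q := Over.homMk (pullback.fst q₂.left τ.left) rfl
    let r₂ : R ⟶ GeomConn.resPt w' (AlgebraicClosure (W.left.residueField w')) :=
      Over.homMk (pullback.snd q₂.left τ.left) (by
        show pullback.snd q₂.left τ.left ≫ _ = pullback.fst q₂.left τ.left ≫ Q.hom
        rw [← Over.w τ, ← Over.w q₂, pullback.condition_assoc])
    have sqR : IsPullback r₁ r₂ q₂ τ := IsPullback.of_map (Over.forget S)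
      (Over.OverMorphism.ext pullback.condition) (IsPullback.of_hasPullback q₂.left τ.left)
    let ρ : (yon S).obj R ⟶ pullback bW ((yon S).map τ) :=
      sqτ.lift ((yon S).map r₁ ≫ π) ((yon S).map r₂)
        (by rw [Category.assoc, sqW.lift_snd, ← Functor.map_comp, ← Functor.map_comp, sqR.w])
    have sqρ : IsPullback ((yon S).map r₁) ρ π (pullback.fst bW ((yon S).map τ)) := by
      refine IsPullback.of_bot ?_ (sqτ.lift_fst _ _ _).symm sqτ
      rw [sqW.lift_snd, sqτ.lift_snd]
      exact isPullback_yon sqR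
    have : Points.map (pullback.fst bW ((yon S).map τ)) ⁻¹' K i = Points.ofPt ρ '' (r₁.left ⁻¹' SC i) := by
      ext z
      constructor
      · rintro ⟨q, hq, hqz⟩
        obtain ⟨r, hr₁, hr₂⟩ := AlgSpGeomConn.exists_ofPt_of_isPullback (x := z) (v := q) sqρ hqz.symm
        exact ⟨r, by rw [Set.mem_preimage, hr₁]; exact hq, hr₂⟩
      · rintro ⟨r, hr, rfl⟩
        exact ⟨r₁.left r, hr, by rw [← Core.ofPt_map_comp, ← Core.ofPt_comp, sqρ.w]⟩
    rw [this]
    exact (hconn τ.left _ _ (IsPullback.of_hasPullback q₂.left τ.left) i).image _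
      (Points.continuous_ofPt ρ).continuousOn
  let p' : (yon S).obj W ⟶ Y := (yon S).map e ≫ bV
  have hp' : RepWith @Etale p' := repWith_comp (repWith_etale_yon_map he₀) hbV
  refine ⟨Points.ofPt p' '' (Points.schemeHomeo W ⁻¹' G),
    Core.isOpenMap_ofPt hp' _ (hG.preimage (Points.schemeHomeo W).continuous), ⟨w, hwG, ?_⟩, ?_⟩
  · rw [Core.ofPt_map_comp, ← hv]
    exact congrArg _ hw
  rintro _ ⟨w', hw', rfl⟩ k k' hk hk' hkg hk'g P a b sq P' a' b' sq'
  let τ := GeomConn.resHom w (AlgebraicClosure (W.left.residueField w))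
  let τ' := GeomConn.resHom w' (AlgebraicClosure (W.left.residueField w'))
  have sqτ := IsPullback.of_hasPullback bW ((yon S).map τ)
  have sqτ' := IsPullback.of_hasPullback bW ((yon S).map τ')
  have hpw : Points.ofPt p' w = Points.ofPt p u := by
    rw [Core.ofPt_map_comp, ← hv]
    exact congrArg _ hw
  rw [card_eq_of_mk_eq hX hY hkg
      (show (Core.ofHom ((yon S).map τ ≫ p')).IsGeometric from
        (inferInstanceAs (IsAlgClosed (AlgebraicClosure (W.left.residueField w)))))
      ((hk.trans hpw.symm).trans (mk_ofHom_resHom p' w _).symm) sq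
      (P' := pullback bW ((yon S).map τ))
      (a' := pullback.fst _ _ ≫ pullback.fst g _ ≫ pullback.fst f bV)
      (b' := pullback.snd bW ((yon S).map τ))
      (by rw [Core.toHom_ofHom]; exact sqτ.paste_horiz (sqW.paste_horiz sqV)),
    card_eq_of_mk_eq hX hY hk'g
      (show (Core.ofHom ((yon S).map τ' ≫ p')).IsGeometric from
        (inferInstanceAs (IsAlgClosed (AlgebraicClosure (W.left.residueField w')))))
      (hk'.trans (mk_ofHom_resHom p' w' _).symm) sq'
      (P' := pullback bW ((yon S).map τ'))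
      (a' := pullback.fst _ _ ≫ pullback.fst g _ ≫ pullback.fst f bV)
      (b' := pullback.snd bW ((yon S).map τ'))
      (by rw [Core.toHom_ofHom]; exact sqτ'.paste_horiz (sqW.paste_horiz sqV))]
  have hfst : ∀ (x : ↥W.left) (z : Points (pullback bW ((yon S).map
      (GeomConn.resHom x (AlgebraicClosure (W.left.residueField x)))))),
      Points.map bW (Points.map (pullback.fst _ _) z) = Points.schemeHomeo W x := by
    intro x z
    rw [← Points.map_comp, pullback.condition, Points.map_comp]
    obtain ⟨t, ht⟩ := (Points.schemeHomeo _).surjective (Points.map (pullback.snd bW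
      ((yon S).map (GeomConn.resHom x (AlgebraicClosure (W.left.residueField x))))) z)
    rw [← ht, Points.map_yon_map_apply]
    congr 1
    exact (Scheme.Hom.comp_apply _ _ _).trans (Scheme.fromSpecResidueField_apply _ _)
  refine card_le_of_nerve (fun i => Points.map (pullback.fst bW ((yon S).map τ)) ⁻¹' K i)
    (fun i => Points.map (pullback.fst bW ((yon S).map τ')) ⁻¹' K i) (fun i => ?_) (hfib w)
    (fun z => ?_) (hfib w') (fun z => ?_) fun i j => ?_
  · have : Points.map (pullback.fst bW ((yon S).map τ)) ⁻¹' K i =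
        Points.map (pullback.fst bW ((yon S).map τ)) ⁻¹' I i :=
      Set.ext fun z => ⟨fun hz => hwK i _ (hfst w z) hz, fun hz => Set.image_mono (hsub i) hz⟩
    rw [this]
    exact (hI i).preimage (Points.continuous_map _)
  · obtain ⟨i, hi⟩ := hwcov _ (hfst w z)
    exact ⟨i, Set.image_mono (hsub i) hi⟩
  · have : Points.map (pullback.fst bW ((yon S).map τ')) z ∈ ⋃ i, I i := by
      by_contra hn
      exact hw'.1 ⟨_, hn, hfst w' z⟩
    obtain ⟨i, hi⟩ := Set.mem_iUnion.1 this
    exact ⟨i, Set.image_mono (hsub i) hi⟩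
  · rintro ⟨z, hzi, hzj⟩
    have hmem : w₀ ∈ Points.map bW '' (I i ∩ I j) :=
      ⟨_, ⟨hwK i _ (hfst w z) hzi, hwK j _ (hfst w z) hzj⟩, hfst w z⟩
    obtain ⟨x, ⟨hxi, hxj⟩, hx⟩ := Set.mem_iInter.1 hw'.2 ⟨(i, j), hmem⟩
    obtain ⟨z', hz', -⟩ := Core.exists_point_of_isPullback sqτ' x
      (Points.schemeHomeo _ (IsLocalRing.closedPoint _)) (by
        rw [hx, Points.map_yon_map_apply]
        congr 1
        exact ((Scheme.Hom.comp_apply _ _ _).trans (Scheme.fromSpecResidueField_apply _ _)).symm)
    exact ⟨z', show _ ∈ K i from hz'.symm ▸ Set.image_mono (hsub i) hxi,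
      show _ ∈ K j from hz'.symm ▸ Set.image_mono (hsub j) hxj⟩

end Groth.Agent.Lib.AlgSpGeomCount
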