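import Groth.Agent.Lib.Lim.Approx.Rel
import Groth.Agent.Lib.Lim.Valuative
import Groth.Agent.Lib.EtDescent.ClopenLift
import Groth.Agent.Lib.EtDescent.Conn

/-!
# Clopen subsets of geometric fibres of universally closed separated morphisms

A clopen subset of a fibre of a universally closed separated quasi-compact morphism to an affine
scheme is pulled back from a proper morphism of finite type, hence extends to an etale
neighbourhood when the fibre is geometric.
-/

set_option autoImplicit false
set_option backward.isDefEq.respectTransparency false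
universe u

open CategoryTheory CategoryTheory.Limits AlgebraicGeometry Opposite

namespace Groth.Agent.Lib.AlgSpGeomCount

open Groth.Agent.Lib.Lim Groth.Agent.Lib.Lim.Basic

/-- A clopen subset of a fibre of a universally closed separated quasi-compact morphism comes from
a proper morphism of finite type. -/
theorem exists_proper_model {A : CommRingCat.{u}} {Y : Scheme.{u}} (g : Y ⟶ Spec A)
    [UniversallyClosed g] [IsSeparated g] [QuasiCompact g] {T : Scheme.{u}} [CompactSpace T]
    [QuasiSeparatedSpace T] (sb : T ⟶ Spec A)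
    {P : Scheme.{u}} {p₁ : P ⟶ Y} {p₂ : P ⟶ T} (sq : IsPullback p₁ p₂ g sb)
    {C : Set P} (hC : IsClopen C) :
    ∃ (Z : Scheme.{u}) (q : Y ⟶ Z) (f₀ : Z ⟶ Spec A) (_ : IsProper f₀) (hq : q ≫ f₀ = g)
      (C₀ : Set ↥(pullback f₀ sb)), IsClopen C₀ ∧
        (pullback.lift (p₁ ≫ q) p₂ (by rw [Category.assoc, hq]; exact sq.w) :
          P ⟶ pullback f₀ sb) ⁻¹' C₀ = C := by
  have : CompactSpace Y := QuasiCompact.compactSpace_of_compactSpace g
  have : QuasiSeparatedSpace Y := quasiSeparatedSpace_of_quasiSeparated g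
  obtain ⟨R⟩ := Approx.Rel.exists_relApprox g
  obtain ⟨i₀⟩ := IsCofiltered.nonempty (C := R.Kᵒᵖ)
  have : IsSeparated (R.cone.π.app i₀ ≫ R.t.app i₀) := by rw [R.w]; infer_instance
  obtain ⟨i₁, hi₁⟩ := Valuative.exists_isSeparated R.isLimit R.t i₀
  let a : pullback (R.t.app i₁) sb ⟶ R.D.obj i₁ := pullback.fst _ _
  let qP : P ⟶ pullback (R.t.app i₁) sb :=
    pullback.lift (p₁ ≫ R.cone.π.app i₁) p₂ (by
      rw [Category.assoc]
      exact (congrArg (p₁ ≫ ·) (R.w i₁)).trans sq.w)
  have h : IsPullback qP p₁ a (R.cone.π.app i₁) := by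
    refine IsPullback.flip (IsPullback.of_bot ?_ (pullback.lift_fst _ _ _).symm
      (IsPullback.of_hasPullback (R.t.app i₁) sb))
    rw [show R.cone.π.app i₁ ≫ R.t.app i₁ = g from R.w i₁, pullback.lift_snd]
    exact sq
  have := fun j => compactSpace_bcDiagram R.D a j
  have : CompactSpace P := by
    have : QuasiCompact p₂ := MorphismProperty.of_isPullback sq inferInstance
    exact QuasiCompact.compactSpace_of_compactSpace p₂
  obtain ⟨j, V, -, hV⟩ := exists_preimage_eq (bcDiagram R.D a) (bcCone h.w)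
    (isLimitBcCone R.isLimit h) ⟨C, hC.2⟩ hC.1.isCompact
  let V' : (pullback a (R.D.map j.hom)).Opens := V
  let π : Y ⟶ R.D.obj j.left := R.cone.π.app j.left
  have hπg : π ≫ R.t.app j.left = g := R.w j.left
  have : IsSeparated (R.t.app j.left) := by
    have e : R.t.app j.left = R.D.map j.hom ≫ R.t.app i₁ := by simp
    rw [e]
    infer_instance
  have : UniversallyClosed π := by
    have : UniversallyClosed (π ≫ R.t.app j.left) := by rw [hπg]; infer_instance
    exact UniversallyClosed.of_comp_of_isSeparated π (R.t.app j.left)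
  have : Surjective π.toImage := by
    refine ⟨fun z => ?_⟩
    have hr : IsClosed (Set.range π.toImage) := π.toImage.isClosedMap.isClosed_range
    exact hr.closure_eq.le ((π.toImage.denseRange) z)
  let f₀ : π.image ⟶ Spec A := π.imageι ≫ R.t.app j.left
  have hq : π.toImage ≫ f₀ = g := by
    rw [← Category.assoc, π.toImage_imageι, hπg]
  have : UniversallyClosed f₀ := by
    have : UniversallyClosed (π.toImage ≫ f₀) := by rw [hq]; infer_instance
    exact UniversallyClosed.of_comp_surjective π.toImage f₀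
  have hproper : IsProper f₀ := {}
  let ρ : P ⟶ pullback f₀ sb :=
    pullback.lift (p₁ ≫ π.toImage) p₂ (by rw [Category.assoc, hq]; exact sq.w)
  have sqρ : IsPullback p₁ ρ π.toImage (pullback.fst f₀ sb) :=
    IsPullback.of_bot (by rw [hq, pullback.lift_snd]; exact sq) (pullback.lift_fst _ _ _).symm
      (IsPullback.of_hasPullback _ _)
  have : Surjective ρ := MorphismProperty.of_isPullback sqρ inferInstance
  have : UniversallyClosed ρ := MorphismProperty.of_isPullback sqρ inferInstance
  let Φ : pullback f₀ sb ⟶ pullback a (R.D.map j.hom) :=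
    pullback.lift (pullback.lift (pullback.fst f₀ sb ≫ π.imageι ≫ R.D.map j.hom) (pullback.snd f₀ sb)
        (by
          have e : R.D.map j.hom ≫ R.t.app i₁ = R.t.app j.left := by simp
          simp only [Category.assoc]
          rw [e]
          exact pullback.condition))
      (pullback.fst f₀ sb ≫ π.imageι) (by simp [a, pullback.lift_fst])
  have hΦ : (ρ ≫ Φ : P ⟶ pullback a (R.D.map j.hom)) = (bcCone h.w).π.app j := by
    apply pullback.hom_ext
    · rw [Category.assoc, bcCone_π_fst, pullback.lift_fst]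
      apply pullback.hom_ext
      · simp only [ρ, qP, Category.assoc, pullback.lift_fst, pullback.lift_fst_assoc]
        rw [π.toImage_imageι_assoc]
        exact congrArg (p₁ ≫ ·) (R.cone.w j.hom)
      · simp only [ρ, qP, Category.assoc, pullback.lift_snd]
    · rw [Category.assoc, bcCone_π_snd, pullback.lift_snd]
      simp only [ρ, pullback.lift_fst_assoc, Category.assoc]
      rw [π.toImage_imageι]
  have hpre : ρ ⁻¹' (Φ ⁻¹' (V' : Set _)) = C := by
    have := congrArg (fun U : P.Opens => (U : Set P)) hV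
    rw [← hΦ] at this
    exact this
  refine ⟨π.image, π.toImage, f₀, hproper, hq, Φ ⁻¹' (V' : Set _), ⟨?_, V'.2.preimage Φ.continuous⟩, hpre⟩
  have : Φ ⁻¹' (V' : Set _) = ρ '' C := by
    rw [← hpre, Set.image_preimage_eq _ ρ.surjective]
  rw [this]
  exact ρ.isClosedMap _ hC.1

/-- A clopen subset of a geometric fibre of a universally closed separated quasi-compact morphism
to an affine scheme extends to an affine etale neighbourhood. -/
theorem exists_etale_clopen {A : CommRingCat.{u}} {Y : Scheme.{u}} (g : Y ⟶ Spec A)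
    [UniversallyClosed g] [IsSeparated g] [QuasiCompact g] {k : Type u} [Field k] [IsAlgClosed k]
    (sb : Spec (CommRingCat.of k) ⟶ Spec A)
    {P : Scheme.{u}} {p₁ : P ⟶ Y} {p₂ : P ⟶ Spec (CommRingCat.of k)}
    (sq : IsPullback p₁ p₂ g sb) {C : Set P} (hC : IsClopen C) :
    ∃ (V : Scheme.{u}) (_ : IsAffine V) (e : V ⟶ Spec A) (_ : Etale e)
      (vb : Spec (CommRingCat.of k) ⟶ V)
      (hv : vb ≫ e = sb) (CV : Set ↥(pullback g e)), IsClopen CV ∧
      (pullback.lift p₁ (p₂ ≫ vb) (by rw [Category.assoc, hv]; exact sq.w) :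
        P ⟶ pullback g e) ⁻¹' CV = C := by
  obtain ⟨Z, q, f₀, _, hq, C₀, hC₀, hpre⟩ := exists_proper_model g sb sq hC
  obtain ⟨W, e, _, wb, hw, CW, hCW, hpre'⟩ :=
    EtDescent.exists_etale_clopen EtDescent.steinConn f₀ sb (IsPullback.of_hasPullback f₀ sb) hC₀
  let w : W := wb (IsLocalRing.closedPoint k)
  obtain ⟨O, hO, hwO, -⟩ := exists_isAffineOpen_mem_and_subset (show w ∈ (⊤ : W.Opens) from trivial)
  have : Set.range wb ⊆ Set.range O.ι := by
    rintro x ⟨t, rfl⟩
    rw [Scheme.Opens.range_ι, show t = IsLocalRing.closedPoint k from Subsingleton.elim _ _]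
    exact hwO
  let vb := IsOpenImmersion.lift O.ι wb this
  have hvO : vb ≫ O.ι = wb := IsOpenImmersion.lift_fac _ _ _
  have hv : vb ≫ O.ι ≫ e = sb := by rw [← Category.assoc, hvO, hw]
  let Ψ : pullback g (O.ι ≫ e) ⟶ pullback f₀ e :=
    pullback.lift (pullback.fst _ _ ≫ q) (pullback.snd _ _ ≫ O.ι)
      (by rw [Category.assoc, hq, pullback.condition, Category.assoc])
  refine ⟨O.toScheme, hO, O.ι ≫ e, inferInstance, vb, hv, Ψ ⁻¹' CW, hCW.preimage Ψ.continuous, ?_⟩
  have key : ∀ (a : P ⟶ pullback g (O.ι ≫ e)) (b : P ⟶ pullback f₀ sb)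
      (c : pullback f₀ sb ⟶ pullback f₀ e), a ≫ Ψ = b ≫ c → a ⁻¹' (Ψ ⁻¹' CW) = b ⁻¹' (c ⁻¹' CW) := by
    intro a b c habc
    ext x
    rw [Set.mem_preimage, Set.mem_preimage, Set.mem_preimage, Set.mem_preimage,
      ← Scheme.Hom.comp_apply, habc, Scheme.Hom.comp_apply]
  rw [← hpre, ← hpre']
  apply key
  apply pullback.hom_ext <;>
    simp [Ψ, pullback.lift_fst, pullback.lift_snd, pullback.lift_fst_assoc, pullback.lift_snd_assoc, hvO]

end Groth.Agent.Lib.AlgSpGeomCount
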