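import Groth.Agent.Lib.AlgSpGeomCount.Space
import Groth.Agent.Lib.AlgSpDecent.FieldChangeFibre

/-!
# Counting connected components of geometric fibres
-/

set_option autoImplicit false
universe u

open CategoryTheory CategoryTheory.Limits AlgebraicGeometry Topology
open AlgSp

namespace Groth.Agent.Lib.AlgSpGeomCount

open Groth.Agent.Lib.AlgSpace Groth.Agent.Lib.AlgSpDecent Groth.Agent.Lib.AlgSpMor

/-- Disjoint nonempty clopen subsets bound the number of connected components from below. -/
theorem lt_card_of_family {α : Type*} [TopologicalSpace α] {n : ℕ} (C : Fin (n + 1) → Set α)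
    (hC : ∀ i, IsClopen (C i)) (hne : ∀ i, (C i).Nonempty) (hd : ∀ i j, i ≠ j → Disjoint (C i) (C j)) :
    (n : ℕ∞) < ENat.card (_root_.ConnectedComponents α) := by
  choose x hx using hne
  let F : Fin (n + 1) → _root_.ConnectedComponents α := fun i => ConnectedComponents.mk (x i)
  have hF : Function.Injective F := by
    intro i j h
    by_contra hij
    have h1 : x i ∈ connectedComponent (x j) := by
      rw [← ConnectedComponents.coe_eq_coe.1 h]
      exact mem_connectedComponent
    exact (hd i j hij).le_bot ⟨hx i, (hC j).connectedComponent_subset (hx j) h1⟩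
  have := ENat.card_le_card_of_injective hF
  rw [ENat.card_eq_coe_fintype_card, Fintype.card_fin] at this
  exact lt_of_lt_of_le (by exact_mod_cast Nat.lt_succ_self n) this

/-- More than `n` connected components give `n + 1` disjoint nonempty clopen subsets. -/
theorem exists_family_of_lt_card {α : Type*} [TopologicalSpace α] {n : ℕ}
    (h : (n : ℕ∞) < ENat.card (_root_.ConnectedComponents α)) :
    ∃ C : Fin (n + 1) → Set α, (∀ i, IsClopen (C i)) ∧ (∀ i, (C i).Nonempty) ∧
      ∀ i j, i ≠ j → Disjoint (C i) (C j) := by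
  suffices H : ∀ m ≤ n, ∃ C : Fin (m + 1) → Set α, (∀ i, IsClopen (C i)) ∧ (∀ i, (C i).Nonempty) ∧
      (∀ i j, i ≠ j → Disjoint (C i) (C j)) ∧ ∀ x, ∃ i, x ∈ C i by
    obtain ⟨C, h1, h2, h3, -⟩ := H n le_rfl
    exact ⟨C, h1, h2, h3⟩
  intro m
  induction m with
  | zero =>
    intro _
    have : Nonempty α := by
      by_contra hα
      rw [not_nonempty_iff] at hα
      have : IsEmpty (_root_.ConnectedComponents α) :=
        ⟨fun c => hα.false (ConnectedComponents.surjective_coe c).choose⟩
      rw [(ENat.card_eq_zero_iff_empty _).2 this] at h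
      exact absurd h not_lt_zero
    exact ⟨fun _ => Set.univ, fun _ => isClopen_univ, fun _ => Set.univ_nonempty,
      fun i j hij => absurd (Subsingleton.elim (α := Fin 1) i j) hij, fun x => ⟨0, trivial⟩⟩
  | succ m ih =>
    intro hm
    obtain ⟨C, hC, hne, hd, hcov⟩ := ih (Nat.le_of_succ_le hm)
    obtain ⟨i₀, A, hA, hA1, hA2⟩ : ∃ (i₀ : Fin (m + 1)) (A : Set α), IsClopen A ∧
        (C i₀ ∩ A).Nonempty ∧ (C i₀ \ A).Nonempty := by
      by_contra hno
      push Not at hno
      choose ix hix using hcov
      let G : _root_.ConnectedComponents α → Fin (m + 1) := fun c =>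
        ix (Classical.choose (ConnectedComponents.surjective_coe c))
      have hG : Function.Injective G := by
        intro c c' hcc
        have hc := Classical.choose_spec (ConnectedComponents.surjective_coe c)
        have hc' := Classical.choose_spec (ConnectedComponents.surjective_coe c')
        set x := Classical.choose (ConnectedComponents.surjective_coe c) with hxdef
        set x' := Classical.choose (ConnectedComponents.surjective_coe c') with hxdef'
        rw [← hc, ← hc', ConnectedComponents.coe_eq_coe]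
        have hx' : x' ∈ C (ix x) := by
          rw [show ix x = ix x' from hcc]
          exact hix x'
        have hpre : IsPreconnected (C (ix x)) := by
          rw [isPreconnected_iff_subset_of_fully_disjoint_closed (hC _).1]
          intro u v hu hv huv hduv
          by_contra hne'
          push Not at hne'
          obtain ⟨⟨a, ha, hau⟩, ⟨b, hb, hbv⟩⟩ :=
            And.intro (Set.not_subset.1 hne'.1) (Set.not_subset.1 hne'.2)
          have hAeq : C (ix x) ∩ u = C (ix x) \ v :=
            Set.ext fun z => ⟨fun hz => ⟨hz.1, fun hz' => hduv.le_bot ⟨hz.2, hz'⟩⟩,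
              fun hz => ⟨hz.1, (huv hz.1).resolve_right hz.2⟩⟩
          have hAclop : IsClopen (C (ix x) ∩ u) :=
            ⟨(hC _).1.inter hu, by rw [hAeq]; exact (hC _).2.sdiff hv⟩
          have hbu : b ∈ C (ix x) ∩ u := ⟨hb, (huv hb).resolve_right hbv⟩
          have := hno (ix x) _ hAclop ⟨b, hb, hbu⟩
          exact (Set.eq_empty_iff_forall_notMem.1 this a) ⟨ha, fun h => hau h.2⟩
        exact connectedComponent_eq (hpre.subset_connectedComponent (hix x) hx')
      have hle : ENat.card (_root_.ConnectedComponents α) ≤ ENat.card (Fin (m + 1)) :=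
        ENat.card_le_card_of_injective hG
      rw [ENat.card_eq_coe_fintype_card (α := Fin (m + 1)), Fintype.card_fin] at hle
      exact absurd (h.trans_le hle) (not_lt.2 (by exact_mod_cast hm))
    refine ⟨Fin.snoc (Function.update C i₀ (C i₀ ∩ A)) (C i₀ \ A), fun i => ?_, fun i => ?_,
      fun i j hij => ?_, fun x => ?_⟩
    · refine Fin.lastCases ?_ (fun i => ?_) i
      · rw [Fin.snoc_last]
        exact (hC i₀).diff hA
      · rw [Fin.snoc_castSucc]
        by_cases hi : i = i₀
        · subst hi
          rw [Function.update_self]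
          exact (hC i).inter hA
        · rw [Function.update_of_ne hi]
          exact hC i
    · refine Fin.lastCases ?_ (fun i => ?_) i
      · rwa [Fin.snoc_last]
      · rw [Fin.snoc_castSucc]
        by_cases hi : i = i₀
        · subst hi; rwa [Function.update_self]
        · rw [Function.update_of_ne hi]; exact hne i
    · have hsub : ∀ i, Function.update C i₀ (C i₀ ∩ A) i ⊆ C i := fun i => by
        by_cases hi : i = i₀
        · subst hi; rw [Function.update_self]; exact Set.inter_subset_left
        · rw [Function.update_of_ne hi]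
      have hlast : ∀ i, Disjoint (Function.update C i₀ (C i₀ ∩ A) i) (C i₀ \ A) := fun i => by
        by_cases hi : i = i₀
        · subst hi
          rw [Function.update_self]
          exact Set.disjoint_left.2 fun z hz hz' => hz'.2 hz.2
        · exact ((hd i i₀ hi).mono_left (hsub i)).mono_right Set.diff_subset
      revert hij
      refine Fin.lastCases ?_ (fun i => ?_) i <;> refine Fin.lastCases ?_ (fun j => ?_) j <;>
        intro hij <;> simp only [Fin.snoc_last, Fin.snoc_castSucc]
      · exact absurd rfl hij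
      · exact (hlast j).symm
      · exact hlast i
      · exact ((hd i j fun e => hij (by rw [e])).mono_left (hsub i)).mono_right (hsub j)
    · obtain ⟨i, hi⟩ := hcov x
      by_cases hi₀ : i = i₀
      · subst hi₀
        by_cases hx : x ∈ A
        · exact ⟨i.castSucc, by rw [Fin.snoc_castSucc, Function.update_self]; exact ⟨hi, hx⟩⟩
        · exact ⟨Fin.last _, by rw [Fin.snoc_last]; exact ⟨hi, hx⟩⟩
      · exact ⟨i.castSucc, by rw [Fin.snoc_castSucc, Function.update_of_ne hi₀]; exact hi⟩

variable {S : Scheme.{u}}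

/-- The count of components of a geometric fibre depends on the point only. -/
theorem card_eq_of_mk_eq {X Y : Sp S} (hX : IsAlgSpace X) (hY : IsAlgSpace Y) {f : X ⟶ Y}
    {k k' : AlgSp.FieldPt Y} (hk : k.IsGeometric) (hk' : k'.IsGeometric)
    (hm : Points.mk k = Points.mk k')
    {P : Sp S} {a : P ⟶ X} {b : P ⟶ (yon S).obj k.pt} (h : IsPullback a b f k.toHom)
    {P' : Sp S} {a' : P' ⟶ X} {b' : P' ⟶ (yon S).obj k'.pt} (h' : IsPullback a' b' f k'.toHom) :
    ENat.card (_root_.ConnectedComponents (Points P)) =
      ENat.card (_root_.ConnectedComponents (Points P')) := by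
  obtain ⟨Ω, _, w, α, β, hαβ⟩ := Core.rel_iff.1 (Points.mk_eq_mk_iff.1 hm)
  have : IsSepClosed k.K := have : IsAlgClosed k.K := hk; inferInstance
  have : IsSepClosed k'.K := have : IsAlgClosed k'.K := hk'; inferInstance
  have sqΩ := IsPullback.of_hasPullback f ((yon S).map α ≫ k.toHom)
  have h1 := FieldChangeFibre.card_connectedComponents_eq hX hY h sqΩ
  have sqΩ' : IsPullback (pullback.fst f ((yon S).map α ≫ k.toHom))
      (pullback.snd f ((yon S).map α ≫ k.toHom)) f ((yon S).map β ≫ k'.toHom) := by
    convert sqΩ using 1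
    exact hαβ.symm
  exact h1.symm.trans (FieldChangeFibre.card_connectedComponents_eq hX hY h' sqΩ')

/-- Finitely many clopen subsets of a geometric fibre extend to a common etale neighbourhood. -/
theorem exists_etale_clopen_family {X : Sp S} (hX : IsAlgSpace X) {V : Over S} [IsAffine V.left]
    {f : X ⟶ (yon S).obj V} (hf : IsProperMor f) {k : Type u} [Field k] [IsAlgClosed k]
    {str : Spec (CommRingCat.of k) ⟶ S} (σ : Over.mk str ⟶ V)
    {P : Sp S} {a : P ⟶ X} {b : P ⟶ (yon S).obj (Over.mk str)}
    (sq : IsPullback a b f ((yon S).map σ)) :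
    ∀ {m : ℕ} (C : Fin m → Set (Points P)), (∀ i, IsClopen (C i)) →
    ∃ (W : Over S) (e : W ⟶ V) (_ : Etale e.left) (τ : Over.mk str ⟶ W) (hτ : τ ≫ e = σ)
      (D : Fin m → Set (Points (pullback f ((yon S).map e)))), ∀ i, IsClopen (D i) ∧
      Points.map (pullback.lift a (b ≫ (yon S).map τ)
        (by rw [Category.assoc, ← Functor.map_comp, hτ]; exact sq.w) :
          P ⟶ pullback f ((yon S).map e)) ⁻¹' D i = C i := by
  intro m
  induction m with
  | zero =>
    intro C _
    exact ⟨V, 𝟙 V, inferInstanceAs (Etale (𝟙 V.left)), σ, Category.comp_id σ, fun i => i.elim0,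
      fun i => i.elim0⟩
  | succ m ih =>
    intro C hC
    obtain ⟨W₁, e₁, he₁, τ₁, hτ₁, D₁, hD₁⟩ := ih (fun i => C i.castSucc) fun i => hC _
    obtain ⟨W₂, e₂, he₂, τ₂, hτ₂, D₂, hD₂, hpre₂⟩ := exists_etale_clopen_sp hX hf σ sq (hC (Fin.last m))
    let W : Over S := Over.mk (pullback.fst e₁.left e₂.left ≫ W₁.hom)
    let φ₁ : W ⟶ W₁ := Over.homMk (pullback.fst e₁.left e₂.left) rfl
    let φ₂ : W ⟶ W₂ := Over.homMk (pullback.snd e₁.left e₂.left) (by
      show pullback.snd e₁.left e₂.left ≫ W₂.hom = pullback.fst e₁.left e₂.left ≫ W₁.hom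
      rw [← Over.w e₁, ← Over.w e₂, pullback.condition_assoc])
    have hφ : φ₁ ≫ e₁ = φ₂ ≫ e₂ := Over.OverMorphism.ext pullback.condition
    have sqW : IsPullback φ₁ φ₂ e₁ e₂ := IsPullback.of_map (Over.forget S)
      (Over.OverMorphism.ext pullback.condition) (IsPullback.of_hasPullback e₁.left e₂.left)
    let τ : Over.mk str ⟶ W := sqW.lift τ₁ τ₂ (hτ₁.trans hτ₂.symm)
    have : Etale (φ₁ ≫ e₁).left := inferInstanceAs (Etale (pullback.fst e₁.left e₂.left ≫ e₁.left))
    have hτ : τ ≫ φ₁ ≫ e₁ = σ := by rw [sqW.lift_fst_assoc, hτ₁]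
    let pull : ∀ {W' : Over S} (e' : W' ⟶ V) (φ : W ⟶ W') (_ : φ ≫ e' = φ₁ ≫ e₁),
        pullback f ((yon S).map (φ₁ ≫ e₁)) ⟶ pullback f ((yon S).map e') := fun e' φ hφ' =>
      pullback.lift (pullback.fst _ _) (pullback.snd _ _ ≫ (yon S).map φ)
        (by rw [Category.assoc, ← Functor.map_comp, hφ']; exact pullback.condition)
    refine ⟨W, φ₁ ≫ e₁, this, τ, hτ, Fin.snoc (fun i => Points.map (pull e₁ φ₁ rfl) ⁻¹' D₁ i)
      (Points.map (pull e₂ φ₂ hφ.symm) ⁻¹' D₂), fun i => ?_⟩
    refine Fin.lastCases ?_ (fun i => ?_) i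
    · rw [Fin.snoc_last]
      refine ⟨hD₂.preimage (Points.continuous_map _), ?_⟩
      rw [← hpre₂, ← Set.preimage_comp]
      congr 1
      funext z
      rw [Function.comp_apply, ← Points.map_comp]
      congr 1
      apply pullback.hom_ext
      · simp only [pull, Category.assoc, pullback.lift_fst]
      · simp only [pull, Category.assoc, pullback.lift_snd, pullback.lift_snd_assoc, ← Functor.map_comp,
          τ, sqW.lift_snd]
    · rw [Fin.snoc_castSucc]
      refine ⟨(hD₁ i).1.preimage (Points.continuous_map _), ?_⟩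
      rw [← (hD₁ i).2, ← Set.preimage_comp]
      congr 1
      funext z
      rw [Function.comp_apply, ← Points.map_comp]
      congr 1
      apply pullback.hom_ext
      · simp only [pull, Category.assoc, pullback.lift_fst]
      · simp only [pull, Category.assoc, pullback.lift_snd, pullback.lift_snd_assoc, ← Functor.map_comp,
          τ, sqW.lift_fst]

end Groth.Agent.Lib.AlgSpGeomCount
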