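import Groth.Agent.Lib.EtaleSection.Sections
import Groth.Agent.Lib.EtDescent.Finite
import Groth.Agent.H2.Rigid.SmoothDense
import Groth.Agent.S1324
import Groth.Agent.S1327
import Groth.Agent.S2156

/-!
# Sections through every geometric component of a geometrically reduced fibre

For a flat morphism of finite presentation with a geometrically reduced fibre there are, over an
etale neighbourhood, finitely many sections whose components cover a neighbourhood of the fibre.
-/

set_option autoImplicit false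
universe u

open CategoryTheory CategoryTheory.Limits AlgebraicGeometry Topology TopologicalSpace

namespace Groth.Agent.Lib.AlgSpGeomCount

open Groth.Agent.H54.GeomLift (pt)

/-- Connected components of a Noetherian space are open. -/
theorem isOpen_connectedComponent_of_noetherian {α : Type*} [TopologicalSpace α] [NoetherianSpace α]
    (x : α) : IsOpen (connectedComponent x) := by
  have hfin : {Z ∈ irreducibleComponents α | ¬ Z ⊆ connectedComponent x}.Finite :=
    NoetherianSpace.finite_irreducibleComponents.subset fun _ h => h.1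
  have he : (connectedComponent x)ᶜ = ⋃ Z ∈ {Z ∈ irreducibleComponents α | ¬ Z ⊆ connectedComponent x}, Z := by
    ext y
    constructor
    · intro hy
      exact Set.mem_biUnion (x := irreducibleComponent y)
        ⟨irreducibleComponent_mem_irreducibleComponents y,
          fun h => hy (h mem_irreducibleComponent)⟩ mem_irreducibleComponent
    · intro hy hyx
      obtain ⟨Z, ⟨hZ, hZx⟩, hyZ⟩ := Set.mem_iUnion₂.1 hy
      refine hZx ?_
      rw [connectedComponent_eq hyx]
      exact hZ.1.isConnected.isPreconnected.subset_connectedComponent hyZ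
  rw [← isClosed_compl_iff, he]
  exact hfin.isClosed_biUnion fun Z hZ => isClosed_of_mem_irreducibleComponents Z hZ.1

section
variable {U B : Scheme.{u}} (h : U ⟶ B) [Flat h] [LocallyOfFinitePresentation h] (v : B)
  (Ω : Type u) [Field Ω] [IsAlgClosed Ω] [Algebra (B.residueField v) Ω]
  [Algebra.IsAlgebraic (B.residueField v) Ω]

/-- A section over an etale neighbourhood through a given clopen subset of a geometric fibre. -/
theorem exists_section_mem [GeometricallyReduced (h.fiberToSpecResidueField v)]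
    {P : Scheme.{u}} {p₁ : P ⟶ h.fiber v} {p₂ : P ⟶ Spec (CommRingCat.of Ω)}
    (sq : IsPullback p₁ p₂ (h.fiberToSpecResidueField v)
      (Spec.map (CommRingCat.ofHom (algebraMap (B.residueField v) Ω))))
    {C : Set P} (hC : IsClopen C) (hne : C.Nonempty) :
    ∃ (W : Scheme.{u}) (e : W ⟶ B) (_ : Etale e) (τ : Spec (CommRingCat.of Ω) ⟶ W) (s : W ⟶ U),
      τ ≫ e = Spec.map (CommRingCat.ofHom (algebraMap (B.residueField v) Ω)) ≫ B.fromSpecResidueField v ∧
      s ≫ h = e ∧ ∃ p ∈ C, ∀ (a : Spec (CommRingCat.of Ω) ⟶ P),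
        a ≫ p₂ = 𝟙 _ → a ≫ p₁ ≫ h.fiberι v = τ ≫ s → a (IsLocalRing.closedPoint Ω) = p := by
  let F := h.fiberToSpecResidueField v
  let ψ := Spec.map (CommRingCat.ofHom (algebraMap (B.residueField v) Ω))
  let σ := ψ ≫ B.fromSpecResidueField v
  have sqP : IsPullback (p₁ ≫ h.fiberι v) p₂ h σ :=
    sq.paste_horiz (IsPullback.of_hasPullback h (B.fromSpecResidueField v))
  have : IsIntegralHom ψ := by
    rw [IsIntegralHom.SpecMap_iff]
    exact algebraMap_isIntegral_iff.2 inferInstance
  have : UniversallyOpen ψ := inferInstance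
  have : IsIntegralHom p₁ := MorphismProperty.of_isPullback sq.flip ‹IsIntegralHom ψ›
  have : UniversallyOpen p₁ := MorphismProperty.of_isPullback sq.flip ‹UniversallyOpen ψ›
  have hD : IsOpen (p₁ '' C) := p₁.isOpenMap _ hC.2
  have hred : IsReduced (h.fiber v) :=
    GeometricallyReduced.geometrically_isReduced (f := F) (K := B.residueField v) (𝟙 _) (𝟙 _) F
      (IsPullback.of_horiz_isIso ⟨by simp [F]⟩)
  letI : (h.fiber v).Over (Spec (CommRingCat.of (B.residueField v))) := ⟨F⟩
  have : LocallyOfFinitePresentation (h.fiber v ↘ Spec (CommRingCat.of (B.residueField v))) :=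
    inferInstanceAs (LocallyOfFinitePresentation F)
  have : GeometricallyReduced (h.fiber v ↘ Spec (CommRingCat.of (B.residueField v))) :=
    inferInstanceAs (GeometricallyReduced F)
  have hdense : Dense (F.smoothLocus : Set ↥(h.fiber v)) :=
    Groth.Agent.H2.Rigid.SmoothDense.dense_smoothLocus (B.residueField v) (h.fiber v)
  obtain ⟨O₀, hO₀, hO₀pre⟩ := ((h.fiberι v).isEmbedding.isInducing.isOpen_iff).1
    (hD.inter F.smoothLocus.isOpen)
  obtain ⟨z, hzD, hzS⟩ := hdense.inter_open_nonempty _ hD (hne.image _)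
  have key : ∀ (x : U) (v : B) (_ : h x = v) (z : ↥(h.fiber v)), h.fiberι v z = x →
      z ∈ (h.fiberToSpecResidueField v).smoothLocus → x ∈ h.smoothLocus := by
    rintro x _ rfl z hz hzs
    obtain rfl : z = h.asFiber x :=
      (h.fiberι (h x)).isEmbedding.injective (hz.trans (h.fiberι_asFiber x).symm)
    exact (Groth.Agent.S2156.result h x).2 ⟨Flat.stalkMap h x, hzs⟩
  have hfib : ∀ z : ↥(h.fiber v), h (h.fiberι v z) = v := fun z => by
    have : h.fiberι v z ∈ Set.range (h.fiberι v) := ⟨z, rfl⟩
    rwa [Scheme.Hom.range_fiberι] at this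
  let O : U.Opens := ⟨O₀, hO₀⟩ ⊓ h.smoothLocus
  have hzO : h.fiberι v z ∈ O :=
    ⟨(Set.ext_iff.1 hO₀pre z).2 ⟨hzD, hzS⟩, key _ v (hfib z) z rfl hzS⟩
  have : Smooth (O.ι ≫ h) := by
    rw [← Scheme.Hom.smoothLocus_eq_top_iff, ← Scheme.Hom.preimage_smoothLocus_eq, ← top_le_iff]
    exact fun x _ => x.2.2
  obtain ⟨W, g, w, hg, hgw, sc, hsc⟩ :=
    EtaleSection.Sections.exists_etale_section (O.ι ≫ h) (⟨h.fiberι v z, hzO⟩ : O.toScheme)
  replace hgw : g w = v := hgw.trans ((Scheme.Hom.comp_apply _ _ _).trans (hfib z))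
  let s : W ⟶ U := sc ≫ O.ι
  have hs : s ≫ h = g := by rw [Category.assoc]; exact hsc
  have hsv : h (s w) = v := by rw [← Scheme.Hom.comp_apply, hs, hgw]
  obtain ⟨z', hz'⟩ : s w ∈ Set.range (h.fiberι v) := by rw [Scheme.Hom.range_fiberι]; exact hsv
  have hz'D : z' ∈ p₁ '' C := by
    have : s w ∈ O := (Scheme.Hom.comp_apply sc O.ι w).symm ▸ (sc w).2
    exact ((Set.ext_iff.1 hO₀pre z').1 (show h.fiberι v z' ∈ O₀ from hz'.symm ▸ this.1)).1
  obtain ⟨p, hpC, hp⟩ := hz'D
  have sqW := IsPullback.of_hasPullback g σ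
  let j : pullback g σ ⟶ P := sqP.lift (pullback.fst g σ ≫ s) (pullback.snd g σ)
    (by rw [Category.assoc, hs, pullback.condition])
  have sqj : IsPullback (pullback.fst g σ) j s (p₁ ≫ h.fiberι v) := by
    refine IsPullback.of_bot ?_ (sqP.lift_fst _ _ _).symm sqP
    rw [hs, sqP.lift_snd]
    exact sqW
  obtain ⟨q, hq₁, hq₂⟩ := Scheme.exists_preimage_of_isPullback sqj w p
    (by show s w = _; rw [Scheme.Hom.comp_apply (f := p₁), hp, hz'])
  have : Etale g := hg
  have : Etale (pullback.snd g σ) := inferInstance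
  have : LocallyQuasiFinite (pullback.snd g σ) := Groth.Agent.Lib.SourceDescent.Scheme.locallyQuasiFinite_of_etale _
  obtain ⟨t, ht, htq⟩ := EtDescent.exists_lift_pt_eq (pullback.snd g σ) (𝟙 _) q (Subsingleton.elim _ _)
  refine ⟨W, g, hg, t ≫ pullback.fst g σ, s, ?_, hs, p, hpC, fun a ha₂ ha₁ => ?_⟩
  · rw [Category.assoc, pullback.condition, reassoc_of% ht]
  · have : a = t ≫ j := by
      apply sqP.hom_ext
      · rw [ha₁, Category.assoc, Category.assoc, sqP.lift_fst]
      · rw [ha₂, Category.assoc, sqP.lift_snd, ht]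
    rw [this, Scheme.Hom.comp_apply, ← hq₂]
    exact congrArg j htq

/-- Finitely many sections over a common etale neighbourhood through given clopen subsets. -/
theorem exists_sections_mem [GeometricallyReduced (h.fiberToSpecResidueField v)]
    {P : Scheme.{u}} {p₁ : P ⟶ h.fiber v} {p₂ : P ⟶ Spec (CommRingCat.of Ω)}
    (sq : IsPullback p₁ p₂ (h.fiberToSpecResidueField v)
      (Spec.map (CommRingCat.ofHom (algebraMap (B.residueField v) Ω)))) :
    ∀ {m : ℕ} (C : Fin m → Set P), (∀ i, IsClopen (C i)) → (∀ i, (C i).Nonempty) →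
    ∃ (W : Scheme.{u}) (e : W ⟶ B) (_ : Etale e) (τ : Spec (CommRingCat.of Ω) ⟶ W)
      (s : Fin m → (W ⟶ U)),
      τ ≫ e = Spec.map (CommRingCat.ofHom (algebraMap (B.residueField v) Ω)) ≫ B.fromSpecResidueField v ∧
      ∀ i, s i ≫ h = e ∧ ∀ (a : Spec (CommRingCat.of Ω) ⟶ P),
        a ≫ p₂ = 𝟙 _ → a ≫ p₁ ≫ h.fiberι v = τ ≫ s i → a (IsLocalRing.closedPoint Ω) ∈ C i := by
  intro m
  induction m with
  | zero =>
    intro C _ _
    exact ⟨B, 𝟙 B, inferInstance, Spec.map (CommRingCat.ofHom (algebraMap (B.residueField v) Ω)) ≫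
      B.fromSpecResidueField v, fun i => i.elim0, Category.comp_id _, fun i => i.elim0⟩
  | succ m ih =>
    intro C hC hne
    obtain ⟨W₁, e₁, _, τ₁, s₁, hτ₁, hs₁⟩ := ih (fun i => C i.castSucc) (fun i => hC _) fun i => hne _
    obtain ⟨W₂, e₂, _, τ₂, s₂, hτ₂, hs₂, p, hp, hp'⟩ :=
      exists_section_mem h v Ω sq (hC (Fin.last m)) (hne _)
    refine ⟨pullback e₁ e₂, pullback.fst e₁ e₂ ≫ e₁, inferInstance,
      pullback.lift τ₁ τ₂ (hτ₁.trans hτ₂.symm),
      Fin.snoc (fun i => pullback.fst e₁ e₂ ≫ s₁ i) (pullback.snd e₁ e₂ ≫ s₂),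
      by rw [pullback.lift_fst_assoc, hτ₁], fun i => ?_⟩
    refine Fin.lastCases ?_ (fun i => ?_) i
    · rw [Fin.snoc_last]
      refine ⟨by rw [Category.assoc, hs₂, pullback.condition], fun a ha₂ ha₁ => ?_⟩
      rw [pullback.lift_snd_assoc] at ha₁
      rw [hp' a ha₂ ha₁]
      exact hp
    · rw [Fin.snoc_castSucc]
      refine ⟨by rw [Category.assoc, (hs₁ i).1], fun a ha₂ ha₁ => ?_⟩
      rw [pullback.lift_fst_assoc] at ha₁
      exact (hs₁ i).2 a ha₂ ha₁

end

/-- Over an etale neighbourhood of a point with geometrically reduced fibre there are finitely many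
open sets covering the fibre, each contained in a set meeting every fibre in one geometrically
connected component. -/
theorem exists_componentSets {U B : Scheme.{u}} (h : U ⟶ B) [Flat h] [LocallyOfFinitePresentation h]
    [QuasiCompact h] [QuasiSeparated h] (v : B) (hv : GeometricallyReduced (h.fiberToSpecResidueField v)) :
    ∃ (W : Scheme.{u}) (e : W ⟶ B) (_ : Etale e) (w : W) (_ : e w = v) (m : ℕ)
      (SC O : Fin m → Set ↥(pullback h e)),
      (∀ i, IsOpen (O i)) ∧ (∀ i, O i ⊆ SC i) ∧
      (∀ z, pullback.snd h e z = w → ∃ i, z ∈ O i) ∧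
      (∀ i z, pullback.snd h e z = w → z ∈ SC i → z ∈ O i) ∧
      ∀ {L : Type u} [Field L] (τ : Spec (CommRingCat.of L) ⟶ W) {R : Scheme.{u}}
        (r₁ : R ⟶ pullback h e) (r₂ : R ⟶ Spec (CommRingCat.of L)),
        IsPullback r₁ r₂ (pullback.snd h e) τ → ∀ i, _root_.IsConnected (r₁ ⁻¹' SC i) := by
  let Ω := AlgebraicClosure (B.residueField v)
  let F := h.fiberToSpecResidueField v
  let ψ := Spec.map (CommRingCat.ofHom (algebraMap (B.residueField v) Ω))
  let P := pullback F ψ
  have : IsNoetherian P := by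
    have : QuasiCompact (pullback.snd F ψ) := inferInstance
    have : LocallyOfFiniteType (pullback.snd F ψ) := inferInstance
    have : IsLocallyNoetherian P := LocallyOfFiniteType.isLocallyNoetherian (pullback.snd F ψ)
    have : CompactSpace P := QuasiCompact.compactSpace_of_compactSpace (pullback.snd F ψ)
    exact {}
  have : NoetherianSpace P := inferInstance
  obtain ⟨J, hJ⟩ := isCompact_univ.elim_finite_subcover (fun p : P => connectedComponent p)
    isOpen_connectedComponent_of_noetherian (fun p _ => Set.mem_iUnion.2 ⟨p, mem_connectedComponent⟩)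
  let C : Fin J.card → Set P := fun i => connectedComponent (J.equivFin.symm i).1
  obtain ⟨W, e, he, τ, s, hτ, hs⟩ := exists_sections_mem h v Ω
    (IsPullback.of_hasPullback F ψ) C
    (fun i => ⟨isClosed_connectedComponent, isOpen_connectedComponent_of_noetherian _⟩)
    fun i => ⟨_, mem_connectedComponent⟩
  let w : W := τ (IsLocalRing.closedPoint Ω)
  have hw : e w = v := by
    rw [← Scheme.Hom.comp_apply, hτ, Scheme.Hom.comp_apply]
    exact Scheme.fromSpecResidueField_apply _ _
  let f' := pullback.snd h e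
  let sec : Fin J.card → (W ⟶ pullback h e) := fun i =>
    pullback.lift (s i) (𝟙 W) (by rw [(hs i).1, Category.id_comp])
  have hsec : ∀ i, sec i ≫ f' = 𝟙 W := fun i => pullback.lift_snd _ _ _
  have hgr : GeometricallyReduced (f'.fiberToSpecResidueField w) := by
    refine MorphismProperty.of_isPullback (isPullback_fiberToSpecResidueField_of_isPullback
      (IsPullback.of_hasPullback h e) w) ?_
    rw [hw]
    exact hv
  have hint : ∀ i, connectedComponentIn (f' ⁻¹' {w}) (sec i w) ⊆
      interior (MoreMor.sectionComponents f' (sec i)) := fun i =>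
    Groth.Agent.S1327.result f' (sec i) (hsec i) w hgr
  have sqP : IsPullback (pullback.fst F ψ ≫ h.fiberι v) (pullback.snd F ψ) h
      (ψ ≫ B.fromSpecResidueField v) :=
    (IsPullback.of_hasPullback F ψ).paste_horiz (IsPullback.of_hasPullback h (B.fromSpecResidueField v))
  let lP : P ⟶ pullback h e := pullback.lift (pullback.fst F ψ ≫ h.fiberι v) (pullback.snd F ψ ≫ τ)
    (by rw [sqP.w, Category.assoc, hτ])
  have sqlP : IsPullback lP (pullback.snd F ψ) f' τ := by
    refine IsPullback.of_right ?_ (pullback.lift_snd _ _ _) (IsPullback.of_hasPullback h e)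
    rw [pullback.lift_fst, hτ]
    exact sqP
  refine ⟨W, e, he, w, hw, J.card, fun i => MoreMor.sectionComponents f' (sec i),
    fun i => interior (MoreMor.sectionComponents f' (sec i)), fun i => isOpen_interior,
    fun i => interior_subset, fun z hz => ?_, fun i z hz hzi => ?_, fun {L} _ τ' {R} r₁ r₂ sqR i => ?_⟩
  · obtain ⟨p, hp, -⟩ := Scheme.exists_preimage_of_isPullback sqlP z (IsLocalRing.closedPoint Ω) hz
    obtain ⟨q, hq, hpq⟩ := Set.mem_iUnion₂.1 (hJ (Set.mem_univ p))
    let i := J.equivFin ⟨q, hq⟩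
    refine ⟨i, hint i ?_⟩
    have hCi : C i = connectedComponent q := by
      show connectedComponent _ = _
      rw [Equiv.symm_apply_apply]
    let a : Spec (CommRingCat.of Ω) ⟶ P := sqP.lift (τ ≫ s i) (𝟙 _)
      (by rw [Category.assoc, (hs i).1, hτ, Category.id_comp])
    have ha : a (IsLocalRing.closedPoint Ω) ∈ C i :=
      (hs i).2 a (sqP.lift_snd _ _ _) (sqP.lift_fst _ _ _)
    have hal : a ≫ lP = τ ≫ sec i := by
      apply pullback.hom_ext
      · rw [Category.assoc, pullback.lift_fst, sqP.lift_fst, Category.assoc, pullback.lift_fst]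
      · rw [Category.assoc, pullback.lift_snd, sqP.lift_snd_assoc, Category.assoc, pullback.lift_snd,
          Category.comp_id, Category.id_comp]
    have hsub : lP '' C i ⊆ connectedComponentIn (f' ⁻¹' {w}) (sec i w) := by
      refine (IsPreconnected.image isPreconnected_connectedComponent _
        lP.continuous.continuousOn).subset_connectedComponentIn ⟨_, ha, ?_⟩ ?_
      · rw [← Scheme.Hom.comp_apply, hal, Scheme.Hom.comp_apply]
      · rintro _ ⟨x, -, rfl⟩
        show f' (lP x) = w
        rw [← Scheme.Hom.comp_apply, sqlP.w, Scheme.Hom.comp_apply]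
        exact congrArg τ (Subsingleton.elim (α := PrimeSpectrum _) _ _)
    rw [← hp]
    exact hsub ⟨p, by rw [hCi]; exact hpq, rfl⟩
  · refine hint i ?_
    have : z ∈ connectedComponentIn (f' ⁻¹' {f' z}) (sec i (f' z)) := hzi
    rwa [show f' z = w from hz] at this
  · let s' : Spec (CommRingCat.of L) ⟶ R := sqR.lift (τ' ≫ sec i) (𝟙 _)
      (by rw [Category.assoc, hsec, Category.comp_id, Category.id_comp])
    rw [← Groth.Agent.S1324.result f' (sec i) (hsec i) r₂ r₁ τ' sqR s' (sqR.lift_snd _ _ _)
      (sqR.lift_fst _ _ _)]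
    have : MoreMor.sectionComponents r₂ s' = connectedComponent (s' (IsLocalRing.closedPoint L)) := by
      ext x
      have hx : r₂ x = IsLocalRing.closedPoint L := Subsingleton.elim (α := PrimeSpectrum _) _ _
      have huniv : r₂ ⁻¹' {r₂ x} = Set.univ :=
        Set.eq_univ_of_forall fun y => Subsingleton.elim (α := PrimeSpectrum _) _ _
      show x ∈ connectedComponentIn (r₂ ⁻¹' {r₂ x}) (s' (r₂ x)) ↔ _
      rw [huniv, connectedComponentIn_univ, hx]
    rw [this]
    exact isConnected_connectedComponent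

end Groth.Agent.Lib.AlgSpGeomCount
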