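import Groth.Agent.Lib.AlgSpGeomCount.ClopenExt
import Groth.Agent.Lib.AlgSpNormCover.Exists
import Groth.Agent.Lib.AlgSpNormCover.Restrict
import Groth.Agent.Lib.AlgSpMor.Proper
import Groth.Agent.Lib.AlgSpFpqc.Rep
import Groth.Agent.Lib.AlgSpGeomConn.Basic

/-!
# Clopen subsets of geometric fibres of proper spaces extend to etale neighbourhoods
-/

set_option autoImplicit false
universe u

open CategoryTheory CategoryTheory.Limits AlgebraicGeometry Topology
open AlgSp

namespace Groth.Agent.Lib.AlgSpGeomCount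

open Groth.Agent.Lib.AlgSpace Groth.Agent.Lib.AlgSpDecent Groth.Agent.Lib.AlgSpMor

variable {S : Scheme.{u}}

theorem ofPt_eq_map {F : Sp S} {T : Over S} (g : (yon S).obj T ⟶ F) :
    Points.ofPt g = Points.map g ∘ Points.schemeHomeo T :=
  funext fun t => (Core.map_ofScheme g t).symm

theorem isClosedMap_ofPt {F : Sp S} {T : Over S} {g : (yon S).obj T ⟶ F}
    (hg : IsClosedMap (Points.map g)) : IsClosedMap (Points.ofPt g) := by
  rw [ofPt_eq_map]
  exact hg.comp (Points.schemeHomeo T).isClosedMap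

/-- Maps from affine schemes to a separated space over an affine one are qcqs. -/
theorem qcqs_of_separated {X : Sp S} (hX : IsAlgSpace X) {V : Over S} [IsAffine V.left]
    {f : X ⟶ (yon S).obj V} (hf : IsSeparatedMor f) {W : Over S} [IsAffine W.left]
    (g : (yon S).obj W ⟶ X) : IsQuasiCompactMor g ∧ IsQuasiSeparatedMor g := by
  constructor
  · obtain ⟨h, hh⟩ := (yon S).map_surjective (g ≫ f)
    refine Perm.isQuasiCompactMor_of_comp (IsAlgSpace.yon_obj W) hX (IsAlgSpace.yon_obj V).diag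
      (g := f) ?_ (repWith_mono hf fun _ _ p (_ : IsClosedImmersion p) => (inferInstance : QuasiCompact p))
    rw [← hh]
    exact QC.isQuasiCompactMor_of_repWith ((repWith_yon_map_iff _ h).2 (inferInstance : QuasiCompact h.left))
  · refine Sep.repWith_diagonal_of_diag _ g ?_
    rw [AlgSp.repWith_diag_yon_iff]
    have : IsSeparated W.hom := inferInstance
    have : IsClosedImmersion (pullback.diagonal W.hom) := inferInstance
    infer_instance

/-- Clopen extension over an arbitrary affine scheme. -/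
theorem exists_etale_clopen_affine {B Y : Scheme.{u}} [IsAffine B] (g : Y ⟶ B)
    [UniversallyClosed g] [IsSeparated g] [QuasiCompact g] {k : Type u} [Field k] [IsAlgClosed k]
    (sb : Spec (CommRingCat.of k) ⟶ B)
    {P : Scheme.{u}} {p₁ : P ⟶ Y} {p₂ : P ⟶ Spec (CommRingCat.of k)}
    (sq : IsPullback p₁ p₂ g sb) {C : Set P} (hC : IsClopen C) :
    ∃ (V : Scheme.{u}) (_ : IsAffine V) (e : V ⟶ B) (_ : Etale e)
      (vb : Spec (CommRingCat.of k) ⟶ V)
      (hv : vb ≫ e = sb) (CV : Set ↥(pullback g e)), IsClopen CV ∧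
      (pullback.lift p₁ (p₂ ≫ vb) (by rw [Category.assoc, hv]; exact sq.w) :
        P ⟶ pullback g e) ⁻¹' CV = C := by
  have sq' : IsPullback p₁ p₂ (g ≫ B.isoSpec.hom) (sb ≫ B.isoSpec.hom) :=
    sq.of_iso (Iso.refl _) (Iso.refl _) (Iso.refl _) B.isoSpec (by simp) (by simp) (by simp) (by simp)
  obtain ⟨V, hVa, e, he, vb, hv, CV, hCV, hpre⟩ := exists_etale_clopen (g ≫ B.isoSpec.hom) _ sq' hC
  have hv' : vb ≫ e ≫ B.isoSpec.inv = sb := by rw [reassoc_of% hv, Iso.hom_inv_id, Category.comp_id]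
  let i : pullback g (e ≫ B.isoSpec.inv) ⟶ pullback (g ≫ B.isoSpec.hom) e :=
    pullback.lift (pullback.fst _ _) (pullback.snd _ _)
      (by rw [← Category.assoc, pullback.condition]; simp)
  refine ⟨V, hVa, e ≫ B.isoSpec.inv, inferInstance, vb, hv', i ⁻¹' CV, hCV.preimage i.continuous, ?_⟩
  have key : ∀ (l : P ⟶ pullback g (e ≫ B.isoSpec.inv)) (l' : P ⟶ pullback (g ≫ B.isoSpec.hom) e),
      l ≫ pullback.fst _ _ = l' ≫ pullback.fst _ _ → l ≫ pullback.snd _ _ = l' ≫ pullback.snd _ _ →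
      l ⁻¹' (i ⁻¹' CV) = l' ⁻¹' CV := by
    intro l l' h₁ h₂
    have : l ≫ i = l' := by
      apply pullback.hom_ext <;> simp [i, pullback.lift_fst, pullback.lift_snd, h₁, h₂]
    rw [← this]
    ext z
    simp only [Set.mem_preimage, Scheme.Hom.comp_apply]
  rw [← hpre]
  exact key _ _ (by rw [pullback.lift_fst, pullback.lift_fst]) (by rw [pullback.lift_snd, pullback.lift_snd])

/-- A clopen subset of a geometric fibre of a proper morphism to an affine scheme extends to an
etale neighbourhood. -/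
theorem exists_etale_clopen_sp {X : Sp S} (hX : IsAlgSpace X) {V : Over S} [IsAffine V.left]
    {f : X ⟶ (yon S).obj V} (hf : IsProperMor f) {k : Type u} [Field k] [IsAlgClosed k]
    {str : Spec (CommRingCat.of k) ⟶ S} (σ : Over.mk str ⟶ V)
    {P : Sp S} {a : P ⟶ X} {b : P ⟶ (yon S).obj (Over.mk str)}
    (sq : IsPullback a b f ((yon S).map σ)) {C : Set (Points P)} (hC : IsClopen C) :
    ∃ (W : Over S) (e : W ⟶ V) (_ : Etale e.left) (τ : Over.mk str ⟶ W) (hτ : τ ≫ e = σ)
      (D : Set (Points (pullback f ((yon S).map e)))), IsClopen D ∧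
      Points.map (pullback.lift a (b ≫ (yon S).map τ)
        (by rw [Category.assoc, ← Functor.map_comp, hτ]; exact sq.w) :
          P ⟶ pullback f ((yon S).map e)) ⁻¹' D = C := by
  have : CompactSpace (Points X) :=
    QC.compactSpace_of_isQuasiCompactMor hf.2.1.2 (IsPullback.of_id_fst (f := f))
  obtain ⟨U, p, hp, hps⟩ := hX.atlas
  obtain ⟨T, c, hT, hTe, hTs⟩ := AlgSpNormCover.exists_affine_refinement hX hp hps
  obtain ⟨Y, ν, hν, hνs, -⟩ :=
    AlgSpNormCover.exists_integral_cover' hX (fun g => qcqs_of_separated hX hf.1 g) hTe hTs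
  obtain ⟨g₀, hg₀⟩ := (yon S).map_surjective (ν ≫ f)
  -- the scheme is universally closed, separated and quasi-compact over the base
  have hsep : IsSeparated g₀.left := by
    rw [← AlgSp.isSeparatedMor_yon_map_iff, hg₀]
    exact Proper.repWith_diagonal_comp _ (AlgSpFpqc.Rep.isSeparatedMor_of_repWith hX
      (repWith_mono hν fun _ _ q (_ : IsIntegralHom q) => (inferInstance : IsSeparated q))) hf.1
  have huc : UniversallyClosed g₀.left := by
    rw [← repWith_yon_map_iff @UniversallyClosed]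
    refine Proper.repWith_universallyClosed_of (AlgSp.representable_yon_map _) ?_
    rw [hg₀]
    exact Proper.isUnivClosedMor_comp hX (IsAlgSpace.yon_obj V).diag (Proper.isUnivClosedMor_of_repWith
      (repWith_mono hν fun _ _ q (_ : IsIntegralHom q) => (inferInstance : UniversallyClosed q))) hf.2.2
  have hqc : QuasiCompact g₀.left := by
    have : CompactSpace (Points ((yon S).obj Y)) := QC.compactSpace_of_repWith
      (repWith_mono hν fun _ _ q (_ : IsIntegralHom q) => (inferInstance : QuasiCompact q)) hX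
    have : CompactSpace ↥Y.left := (Points.schemeHomeo Y).symm.compactSpace
    infer_instance
  -- the scheme fibre
  let R : Over S := Over.mk (pullback.fst g₀.left σ.left ≫ Y.hom)
  let r₁ : R ⟶ Y := Over.homMk (pullback.fst g₀.left σ.left) rfl
  let r₂ : R ⟶ Over.mk str := Over.homMk (pullback.snd g₀.left σ.left) (by
    show pullback.snd g₀.left σ.left ≫ str = pullback.fst g₀.left σ.left ≫ Y.hom
    rw [← Over.w g₀, pullback.condition_assoc, Over.w σ]
    rfl)
  have sqR : IsPullback r₁ r₂ g₀ σ := IsPullback.of_map (Over.forget S)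
    (Over.OverMorphism.ext pullback.condition) (IsPullback.of_hasPullback g₀.left σ.left)
  let ρ : (yon S).obj R ⟶ P := sq.lift ((yon S).map r₁ ≫ ν) ((yon S).map r₂)
    (by rw [Category.assoc, ← hg₀, ← Functor.map_comp, ← Functor.map_comp, sqR.w])
  have sqρ : IsPullback ((yon S).map r₁) ρ ν a := by
    refine IsPullback.of_bot ?_ (sq.lift_fst _ _ _).symm sq
    rw [← hg₀, sq.lift_snd]
    exact isPullback_yon sqR
  obtain ⟨W₀, _, e₀, he₀, vb, hv, CV, hCV, hpre⟩ := exists_etale_clopen_affine g₀.left σ.left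
    (IsPullback.of_hasPullback g₀.left σ.left) (C := Points.ofPt ρ ⁻¹' C)
    (hC.preimage (Points.continuous_ofPt ρ))
  let W : Over S := Over.mk (e₀ ≫ V.hom)
  let e : W ⟶ V := Over.homMk e₀ rfl
  let τ : Over.mk str ⟶ W := Over.homMk vb (by
    show vb ≫ e₀ ≫ V.hom = str
    rw [reassoc_of% hv, Over.w σ]
    rfl)
  have hτ : τ ≫ e = σ := Over.OverMorphism.ext hv
  let Q : Over S := Over.mk (pullback.fst g₀.left e₀ ≫ Y.hom)
  let q₁ : Q ⟶ Y := Over.homMk (pullback.fst g₀.left e₀) rfl
  let q₂ : Q ⟶ W := Over.homMk (pullback.snd g₀.left e₀) (by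
    show pullback.snd g₀.left e₀ ≫ e₀ ≫ V.hom = pullback.fst g₀.left e₀ ≫ Y.hom
    rw [← Over.w g₀, pullback.condition_assoc])
  have sqQ : IsPullback q₁ q₂ g₀ e := IsPullback.of_map (Over.forget S)
    (Over.OverMorphism.ext pullback.condition) (IsPullback.of_hasPullback g₀.left e₀)
  have sqW := IsPullback.of_hasPullback f ((yon S).map e)
  have hPW := isAlgSpace_of_isPullback sqW (IsAlgSpace.yon_obj V).diag hX (IsAlgSpace.yon_obj W)
  let π : (yon S).obj Q ⟶ pullback f ((yon S).map e) :=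
    sqW.lift ((yon S).map q₁ ≫ ν) ((yon S).map q₂)
      (by rw [Category.assoc, ← hg₀, ← Functor.map_comp, ← Functor.map_comp, sqQ.w])
  have sqπ : IsPullback ((yon S).map q₁) π ν (pullback.fst f ((yon S).map e)) := by
    refine IsPullback.of_bot ?_ (sqW.lift_fst _ _ _).symm sqW
    rw [← hg₀, sqW.lift_snd]
    exact isPullback_yon sqQ
  have hπI : RepWith @IsIntegralHom π := repWith_baseChange sqπ hν
  have hπs : Function.Surjective (Points.ofPt π) :=
    Core.surjective_ofPt (repWith_baseChange sqπ hνs)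
  have hπc : IsClosedMap (Points.ofPt π) := isClosedMap_ofPt (AlgSpNormCover.isClosedMap_map hPW hπI)
  let lP : P ⟶ pullback f ((yon S).map e) := sqW.lift a (b ≫ (yon S).map τ)
    (by rw [Category.assoc, ← Functor.map_comp, hτ]; exact sq.w)
  let lR : R ⟶ Q := Over.homMk
    (pullback.lift (pullback.fst _ _) (pullback.snd _ _ ≫ vb)
      (by rw [Category.assoc, hv]; exact pullback.condition))
    (by
      show pullback.lift _ _ _ ≫ pullback.fst g₀.left e₀ ≫ Y.hom = pullback.fst g₀.left σ.left ≫ Y.hom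
      rw [pullback.lift_fst_assoc])
  have hlR₁ : lR ≫ q₁ = r₁ := Over.OverMorphism.ext (pullback.lift_fst _ _ _)
  have hlR₂ : lR ≫ q₂ = r₂ ≫ τ := Over.OverMorphism.ext (pullback.lift_snd _ _ _)
  have hρπ : ρ ≫ lP = (yon S).map lR ≫ π := by
    apply sqW.hom_ext
    · rw [Category.assoc, sqW.lift_fst, sq.lift_fst, Category.assoc, sqW.lift_fst,
        ← Functor.map_comp_assoc, hlR₁]
    · rw [Category.assoc, sqW.lift_snd, sq.lift_snd_assoc, Category.assoc, sqW.lift_snd,
        ← Functor.map_comp, ← Functor.map_comp, hlR₂]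
  have sqlR : IsPullback ((yon S).map lR) ρ π lP := by
    refine IsPullback.of_right ?_ hρπ.symm sqπ
    rw [← Functor.map_comp, hlR₁, sqW.lift_fst]
    exact sqρ
  have hρs : Function.Surjective (Points.ofPt ρ) := Core.surjective_ofPt (repWith_baseChange sqρ hνs)
  have hmem : ∀ (z : Points P) (q : ↥Q.left), Points.ofPt π q = Points.map lP z → (q ∈ CV ↔ z ∈ C) := by
    intro z q h
    obtain ⟨r, hr₁, hr₂⟩ := AlgSpGeomConn.exists_ofPt_of_isPullback (x := z) (v := q) sqlR h.symm
    rw [← hr₁, ← hr₂]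
    exact Set.ext_iff.1 hpre r
  let D₁ : Set (Points (pullback f ((yon S).map e))) := Points.ofPt π '' CV
  let D₂ : Set (Points (pullback f ((yon S).map e))) := Points.ofPt π '' CVᶜ
  let bW := pullback.snd f ((yon S).map e)
  have hbW : IsClosedMap (Points.map bW) := Proper.isClosedMap_of_isUnivClosedMor (IsAlgSpace.yon_obj W)
    (Proper.univSp_baseChange sqW hf.2.2)
  let G : Set ↥W.left := Points.schemeHomeo W ⁻¹' (Points.map bW '' (D₁ ∩ D₂))
  have hG : IsClosed G :=
    (hbW _ ((hπc _ hCV.1).inter (hπc _ hCV.compl.1))).preimage (Points.schemeHomeo W).continuous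
  let O : W.left.Opens := ⟨Gᶜ, hG.isOpen_compl⟩
  let W' : Over S := Over.mk (O.ι ≫ W.hom)
  let j : W' ⟶ W := Over.homMk O.ι rfl
  have hτO : Set.range vb ⊆ Set.range O.ι := by
    rintro x ⟨t, rfl⟩
    rw [Scheme.Opens.range_ι]
    rintro ⟨y, ⟨⟨q, hq, hqy⟩, ⟨q', hq', hqy'⟩⟩, hy⟩
    have sqP : IsPullback lP b bW ((yon S).map τ) := by
      refine IsPullback.of_right ?_ (sqW.lift_snd _ _ _) sqW
      rw [sqW.lift_fst, ← Functor.map_comp, hτ]
      exact sq
    obtain ⟨z, hz, -⟩ := Core.exists_point_of_isPullback sqP y (Points.ofScheme (Over.mk str) t)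
      (by
        rw [hy, Core.map_ofScheme, Core.ofPt_yon_map]
        rfl)
    exact hq' ((hmem z q' (hqy'.trans hz.symm)).2 ((hmem z q (hqy.trans hz.symm)).1 hq))
  let τ' : Over.mk str ⟶ W' := Over.homMk (IsOpenImmersion.lift O.ι vb hτO) (by
    show IsOpenImmersion.lift O.ι vb hτO ≫ O.ι ≫ W.hom = str
    rw [IsOpenImmersion.lift_fac_assoc]
    exact Over.w τ)
  have hτj : τ' ≫ j = τ := Over.OverMorphism.ext (IsOpenImmersion.lift_fac _ _ _)
  have : Etale (j ≫ e).left := inferInstanceAs (Etale (O.ι ≫ e₀))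
  let μ : pullback f ((yon S).map (j ≫ e)) ⟶ pullback f ((yon S).map e) :=
    sqW.lift (pullback.fst _ _) (pullback.snd _ _ ≫ (yon S).map j)
      (by rw [Category.assoc, ← Functor.map_comp]; exact pullback.condition)
  have hdisj : ∀ y, Points.map μ y ∈ D₁ → Points.map μ y ∈ D₂ → False := by
    intro y h1 h2
    obtain ⟨w', hw'⟩ := (Points.schemeHomeo W').surjective (Points.map (pullback.snd _ _) y)
    refine (show O.ι w' ∈ Gᶜ from w'.2) ⟨_, ⟨h1, h2⟩, ?_⟩
    rw [← Points.map_comp, sqW.lift_snd, Points.map_comp, ← hw']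
    exact Points.map_yon_map_apply j w'
  have hcov : ∀ y, Points.map μ y ∈ D₁ ∨ Points.map μ y ∈ D₂ := fun y => by
    obtain ⟨q, hq⟩ := hπs (Points.map μ y)
    by_cases h : q ∈ CV
    · exact Or.inl ⟨q, h, hq⟩
    · exact Or.inr ⟨q, h, hq⟩
  refine ⟨W', j ≫ e, this, τ', by rw [reassoc_of% hτj, hτ], Points.map μ ⁻¹' D₁,
    ⟨(hπc _ hCV.1).preimage (Points.continuous_map μ), ?_⟩, ?_⟩
  · have : (Points.map μ ⁻¹' D₁)ᶜ = Points.map μ ⁻¹' D₂ := Set.ext fun y =>
      ⟨fun h => (hcov y).resolve_left h, fun h h' => hdisj y h' h⟩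
    rw [← isClosed_compl_iff, this]
    exact (hπc _ hCV.compl.1).preimage (Points.continuous_map μ)
  · ext z
    rw [Set.mem_preimage, Set.mem_preimage, ← Points.map_comp]
    have hl : pullback.lift a (b ≫ (yon S).map τ') (by
        rw [Category.assoc, ← Functor.map_comp, reassoc_of% hτj, hτ]; exact sq.w) ≫ μ = lP := by
      apply sqW.hom_ext
      · rw [Category.assoc, sqW.lift_fst, pullback.lift_fst, sqW.lift_fst]
      · rw [Category.assoc, sqW.lift_snd, pullback.lift_snd_assoc, Category.assoc, ← Functor.map_comp,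
          hτj, sqW.lift_snd]
    rw [hl]
    refine ⟨?_, fun hz => ?_⟩
    · rintro ⟨q, hq, hqz⟩
      exact (hmem z q hqz).1 hq
    · obtain ⟨r, hr⟩ := hρs z
      refine ⟨lR.left r, (Set.ext_iff.1 hpre r).2 (show Points.ofPt ρ r ∈ C by rw [hr]; exact hz), ?_⟩
      rw [← Core.ofPt_map_comp, ← hρπ, Core.ofPt_comp, hr]

end Groth.Agent.Lib.AlgSpGeomCount
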